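import Cfsg.Agent.H681.Sev.A7
import Mathlib.GroupTheory.PGroup
import Mathlib.GroupTheory.Perm.Cycle.Type

/-!
# S4844, PS-12 : the counting part (no module of odd characteristic for `A₇` with all the stabilizers even and of
order prime to 35)
-/

set_option autoImplicit false

namespace Cfsg.Agent.H955.PSq

open Equiv Subgroup

section Split

variable {A M : Type*} [Group A] [CommGroup M] [MulDistribMulAction A M]

/-- the fixed points -/
def Cc (M : Type*) [CommGroup M] [MulDistribMulAction A M] (a : A) : Subgroup M where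
  carrier := {m | a • m = m}
  one_mem' := smul_one a
  mul_mem' {x y} hx hy := by
    show a • (x * y) = x * y
    rw [smul_mul', show a • x = x from hx, show a • y = y from hy]
  inv_mem' {x} hx := by
    show a • x⁻¹ = x⁻¹
    rw [smul_inv', show a • x = x from hx]

/-- the inverted points -/
def Ii (M : Type*) [CommGroup M] [MulDistribMulAction A M] (a : A) : Subgroup M where
  carrier := {m | a • m = m⁻¹}
  one_mem' := by
    show a • (1 : M) = 1⁻¹
    rw [smul_one, inv_one]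
  mul_mem' {x y} hx hy := by
    show a • (x * y) = (x * y)⁻¹
    rw [smul_mul', show a • x = x⁻¹ from hx, show a • y = y⁻¹ from hy, mul_inv]
  inv_mem' {x} hx := by
    show a • x⁻¹ = x⁻¹⁻¹
    rw [smul_inv', show a • x = x⁻¹ from hx]

theorem mem_Cc {a : A} {m : M} : m ∈ Cc M a ↔ a • m = m := Iff.rfl
theorem mem_Ii {a : A} {m : M} : m ∈ Ii M a ↔ a • m = m⁻¹ := Iff.rfl

theorem eq_one_of_sq [Finite M] (hodd : Odd (Nat.card M)) {m : M} (h : m = m⁻¹) : m = 1 := by
  have h1 : m ^ 2 = 1 := by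
    rw [pow_two]
    nth_rewrite 2 [h]
    exact mul_inv_cancel m
  have h2 : orderOf m ∣ 2 := orderOf_dvd_of_pow_eq_one h1
  have h3 : orderOf m ∣ Nat.card M := orderOf_dvd_natCard m
  have h4 : orderOf m ∣ 1 := by
    rw [← Nat.Coprime.gcd_eq_one (Nat.coprime_two_left.2 hodd)]
    exact Nat.dvd_gcd h2 h3
  exact orderOf_eq_one_iff.1 (Nat.dvd_one.1 h4)

/-- The splitting of an invariant subgroup. -/
theorem split [Finite M] (hodd : Odd (Nat.card M)) {a : A} (ha : a * a = 1) (H : Subgroup M)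
    (hH : ∀ m ∈ H, a • m ∈ H) :
    Nat.card H = Nat.card ↥(H ⊓ Cc M a) * Nat.card ↥(H ⊓ Ii M a) := by
  have haa : ∀ m : M, a • a • m = m := fun m => by rw [← mul_smul, ha, one_smul]
  apply le_antisymm
  · rw [← Nat.card_prod]
    refine Nat.card_le_card_of_injective
      (fun m : H => ((⟨m * a • (m : M), H.mul_mem m.2 (hH m m.2), ?_⟩ : ↥(H ⊓ Cc M a)),
        (⟨m * (a • (m : M))⁻¹, H.mul_mem m.2 (H.inv_mem (hH m m.2)), ?_⟩ : ↥(H ⊓ Ii M a)))) ?_
    · show a • ((m : M) * a • (m : M)) = m * a • (m : M)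
      rw [smul_mul', haa, mul_comm]
    · show a • ((m : M) * (a • (m : M))⁻¹) = (m * (a • (m : M))⁻¹)⁻¹
      rw [smul_mul', smul_inv', haa, mul_inv, inv_inv, mul_comm]
    · intro m k h
      rw [Prod.mk.injEq] at h
      have h1 : (m : M) * a • (m : M) = k * a • (k : M) := congrArg Subtype.val h.1
      have h2 : (m : M) * (a • (m : M))⁻¹ = k * (a • (k : M))⁻¹ := congrArg Subtype.val h.2
      have h3 : ((m : M) * (k : M)⁻¹) = ((m : M) * (k : M)⁻¹)⁻¹ := by
        have h4 : (m : M) * a • (m : M) * ((m : M) * (a • (m : M))⁻¹) = k * a • (k : M) * (k * (a • (k : M))⁻¹) := by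
          rw [h1, h2]
        have h5 : (m : M) * m = k * k := by
          calc (m : M) * m = (m : M) * a • (m : M) * ((m : M) * (a • (m : M))⁻¹) := by
                rw [mul_mul_mul_comm, mul_inv_cancel, mul_one]
            _ = k * a • (k : M) * (k * (a • (k : M))⁻¹) := h4
            _ = k * k := by rw [mul_mul_mul_comm, mul_inv_cancel, mul_one]
        rw [eq_inv_iff_mul_eq_one, mul_mul_mul_comm, h5, mul_mul_mul_comm, mul_inv_cancel, mul_one]
      have h6 := eq_one_of_sq hodd h3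
      exact Subtype.ext (mul_inv_eq_one.1 h6)
  · rw [← Nat.card_prod]
    refine Nat.card_le_card_of_injective
      (fun p : ↥(H ⊓ Cc M a) × ↥(H ⊓ Ii M a) => (⟨(p.1 : M) * p.2, H.mul_mem p.1.2.1 p.2.2.1⟩ : H)) ?_
    rintro ⟨⟨c, hc1, hc2⟩, ⟨i, hi1, hi2⟩⟩ ⟨⟨c', hc1', hc2'⟩, ⟨i', hi1', hi2'⟩⟩ h
    have h1 : c * i = c' * i' := congrArg Subtype.val h
    have h2 : c'⁻¹ * c = i' * i⁻¹ := by
      rw [inv_mul_eq_iff_eq_mul, ← mul_assoc, ← h1, mul_inv_cancel_right]
    have h3 : c'⁻¹ * c ∈ Cc M a := (Cc M a).mul_mem ((Cc M a).inv_mem hc2') hc2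
    have h4 : i' * i⁻¹ ∈ Ii M a := (Ii M a).mul_mem hi2' ((Ii M a).inv_mem hi2)
    have h5 : i' * i⁻¹ = (i' * i⁻¹)⁻¹ := by
      rw [← mem_Ii.1 h4, ← h2, mem_Cc.1 h3]
    have h6 := eq_one_of_sq hodd h5
    have h7 : i' = i := mul_inv_eq_one.1 h6
    rw [h6, inv_mul_eq_one] at h2
    subst h7
    subst h2
    rfl

/-- The formula for a four-group. -/
theorem four [Finite M] (hodd : Odd (Nat.card M)) {a b : A} (ha : a * a = 1) (hb : b * b = 1)
    (hab : a * b = b * a) :
    Nat.card M * Nat.card ↥(Cc M a ⊓ Cc M b) ^ 2 =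
      Nat.card ↥(Cc M a) * Nat.card ↥(Cc M b) * Nat.card ↥(Cc M (a * b)) := by
  have hc : ∀ m : M, a • b • m = b • a • m := fun m => by rw [← mul_smul, hab, mul_smul]
  have haa : ∀ m : M, a • a • m = m := fun m => by rw [← mul_smul, ha, one_smul]
  have hbb : ∀ m : M, b • b • m = m := fun m => by rw [← mul_smul, hb, one_smul]
  have e1 : Nat.card M = Nat.card ↥(Cc M a) * Nat.card ↥(Ii M a) := by
    have := split hodd ha (⊤ : Subgroup M) (fun m _ => mem_top _)
    rwa [top_inf_eq, top_inf_eq, Subgroup.card_top] at this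
  have e2 := split hodd hb (Ii M a) (fun m hm => by
    rw [mem_Ii, hc, mem_Ii.1 hm, smul_inv'])
  have e3 := split hodd ha (Cc M b) (fun m hm => by
    rw [mem_Cc, ← hc, mem_Cc.1 hm])
  have e4 := split hodd ha (Cc M (a * b)) (fun m hm => by
    have h1 := mem_Cc.1 hm
    rw [mul_smul] at h1
    rw [mem_Cc, mul_smul, ← hc, h1])
  have e5 : Cc M (a * b) ⊓ Cc M a = Cc M a ⊓ Cc M b := by
    ext m
    rw [mem_inf, mem_inf, mem_Cc, mem_Cc, mem_Cc, mul_smul]
    constructor
    · rintro ⟨h1, h2⟩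
      refine ⟨h2, ?_⟩
      rw [hc, h2] at h1
      exact h1
    · rintro ⟨h1, h2⟩
      exact ⟨by rw [h2, h1], h1⟩
  have e6 : Cc M (a * b) ⊓ Ii M a = Ii M a ⊓ Ii M b := by
    ext m
    rw [mem_inf, mem_inf, mem_Cc, mem_Ii, mem_Ii, mul_smul]
    constructor
    · rintro ⟨h1, h2⟩
      refine ⟨h2, ?_⟩
      rw [hc, h2, smul_inv', inv_eq_iff_eq_inv] at h1
      exact h1
    · rintro ⟨h1, h2⟩
      exact ⟨by rw [h2, smul_inv', h1, inv_inv], h1⟩
  rw [inf_comm (Cc M b)] at e3
  rw [e5, e6] at e4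
  rw [inf_comm (Cc M b)] at e3
  rw [e3, e4, e1, e2]
  ring

end Split

/-- an element of prime order without nontrivial fixed points -/
theorem modEq_one {A M : Type*} [Group A] [CommGroup M] [Finite M] [MulDistribMulAction A M] {p : ℕ}
    [Fact p.Prime] {x : A} (hx : orderOf x = p) (h : ∀ m : M, x • m = m → m = 1) : Nat.card M ≡ 1 [MOD p] := by
  have hp : IsPGroup p (zpowers x) := IsPGroup.of_card (n := 1) (by rw [Nat.card_zpowers, hx, pow_one])
  have h1 := hp.card_modEq_card_fixedPoints M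
  have h2 : MulAction.fixedPoints (zpowers x) M = {1} := by
    ext m
    rw [MulAction.mem_fixedPoints, Set.mem_singleton_iff]
    constructor
    · intro hm
      exact h m (hm ⟨x, mem_zpowers x⟩)
    · rintro rfl g
      exact smul_one g
  rw [h2] at h1
  simpa using h1

theorem key {M : Type*} [CommGroup M] [Finite M] [MulDistribMulAction (alternatingGroup (Fin 7)) M] {r n : ℕ}
    (hr : r.Prime) (hr2 : r ≠ 2) (hM : Nat.card M = r ^ n) (hn : n ≠ 0)
    (h5 : ∀ (m : M) (x : alternatingGroup (Fin 7)), (orderOf x = 5 ∨ orderOf x = 7) → x • m = m → m = 1)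
    (h2 : ∀ m : M, ∃ t : alternatingGroup (Fin 7), orderOf t = 2 ∧ t • m = m) : False := by
  classical
  have hrodd : Odd r := hr.odd_of_ne_two hr2
  have hodd : Odd (Nat.card M) := by rw [hM]; exact hrodd.pow
  -- the Klein four group
  obtain ⟨a, b, hao, hbo, haboo, haa, hbb, hab⟩ : ∃ a b : alternatingGroup (Fin 7), orderOf a = 2 ∧ orderOf b = 2 ∧
      orderOf (a * b) = 2 ∧ a * a = 1 ∧ b * b = 1 ∧ a * b = b * a := by
    refine ⟨⟨c[0, 1] * c[2, 3], Equiv.Perm.mem_alternatingGroup.2 (by decide +kernel)⟩,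
      ⟨c[0, 2] * c[1, 3], Equiv.Perm.mem_alternatingGroup.2 (by decide +kernel)⟩, ?_, ?_, ?_, ?_, ?_, ?_⟩
    · exact Cfsg.Agent.H681.Sev.A7.ct_two.2 (by decide +kernel)
    · exact Cfsg.Agent.H681.Sev.A7.ct_two.2 (by decide +kernel)
    · exact Cfsg.Agent.H681.Sev.A7.ct_two.2 (by decide +kernel)
    · decide +kernel
    · decide +kernel
    · decide +kernel
  -- all the fixed groups have the same order
  have hsq : ∀ {t : alternatingGroup (Fin 7)}, orderOf t = 2 → t * t = 1 ∧ t ≠ 1 := by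
    intro t ht
    refine ⟨by rw [← pow_two, ← ht, pow_orderOf_eq_one], ?_⟩
    rintro rfl
    rw [orderOf_one] at ht
    omega
  obtain ⟨s, hs⟩ : ∃ s, Nat.card ↥(Cc M a) = s := ⟨_, rfl⟩
  have hall : ∀ t : alternatingGroup (Fin 7), orderOf t = 2 → Nat.card ↥(Cc M t) = s := by
    intro t ht
    rw [← hs]
    obtain ⟨h1, h1'⟩ := hsq ht
    obtain ⟨h3, h3'⟩ := hsq hao
    obtain ⟨g, hg⟩ := isConj_iff.1 (H637.A7Grp.invol_conj h3 h3' h1 h1')
    refine (Nat.card_congr ?_).symm
    refine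
      { toFun := fun m => ⟨g • (m : M), ?_⟩
        invFun := fun m => ⟨g⁻¹ • (m : M), ?_⟩
        left_inv := fun m => Subtype.ext (inv_smul_smul g _)
        right_inv := fun m => Subtype.ext (smul_inv_smul g _) }
    · have h4 := mem_Cc.1 m.2
      rw [mem_Cc, ← hg, mul_smul, mul_smul, inv_smul_smul, h4]
    · have h4 : (g * a * g⁻¹) • (m : M) = (m : M) := by
        have h5 := mem_Cc.1 m.2
        exact (congrArg (fun u => u • (m : M)) hg).trans h5
      rw [mul_smul, mul_smul] at h4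
      rw [mem_Cc]
      calc a • g⁻¹ • (m : M) = g⁻¹ • g • a • g⁻¹ • (m : M) := (inv_smul_smul g _).symm
        _ = g⁻¹ • (m : M) := by rw [h4]
  -- the powers
  have hpow : ∀ H : Subgroup M, ∃ d, d ≤ n ∧ Nat.card H = r ^ d := by
    intro H
    have h1 := H.card_subgroup_dvd_card
    rw [hM] at h1
    exact (Nat.dvd_prime_pow hr).1 h1
  obtain ⟨d, -, hd⟩ := hpow (Cc M a)
  obtain ⟨e, -, he⟩ := hpow (Cc M a ⊓ Cc M b)
  have hsd : s = r ^ d := by rw [← hs, hd]
  have hr1 : 1 < r := hr.one_lt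
  -- (1) the four-group
  have k1 : n + 2 * e = 3 * d := by
    have h1 := four (M := M) hodd haa hbb hab
    rw [hM, he, hall b hbo, hall _ haboo, hs, hsd, ← pow_mul, ← pow_add, ← pow_add, ← pow_add] at h1
    have h3 := Nat.pow_right_injective hr1 h1
    omega
  -- (2) `s ^ 2 ≤ |M|`
  have k2 : 2 * d ≤ n := by
    obtain ⟨g, hg⟩ := Cfsg.Agent.H681.Sev.A7.f5 hao
    have hgo : orderOf (g * a * g⁻¹) = 2 := by
      rw [← MulAut.conj_apply, MulEquiv.orderOf_eq, hao]
    have h1 : Cc M a ⊓ Cc M (g * a * g⁻¹) = ⊥ := by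
      rw [eq_bot_iff]
      rintro m ⟨h3, h4⟩
      rw [Subgroup.mem_bot]
      refine h5 m _ (Or.inl hg) ?_
      rw [mul_smul, mem_Cc.1 h4, mem_Cc.1 h3]
    have h3 : Nat.card (↥(Cc M a) × ↥(Cc M (g * a * g⁻¹))) ≤ Nat.card M := by
      refine Nat.card_le_card_of_injective (fun p => (p.1 : M) * p.2) ?_
      rintro ⟨⟨x, hx⟩, ⟨y, hy⟩⟩ ⟨⟨x', hx'⟩, ⟨y', hy'⟩⟩ h
      have h3 : x * y = x' * y' := h
      have h4 : x'⁻¹ * x = y' * y⁻¹ := by
        rw [inv_mul_eq_iff_eq_mul, ← mul_assoc, ← h3, mul_inv_cancel_right]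
      have h6 : x'⁻¹ * x ∈ Cc M a ⊓ Cc M (g * a * g⁻¹) :=
        ⟨(Cc M a).mul_mem ((Cc M a).inv_mem hx') hx, by
          rw [h4]; exact (Cc M _).mul_mem hy' ((Cc M _).inv_mem hy)⟩
      rw [h1, Subgroup.mem_bot] at h6
      have h7 := inv_mul_eq_one.1 h6
      rw [h6] at h4
      have h8 := mul_inv_eq_one.1 h4.symm
      subst h7
      subst h8
      rfl
    rw [Nat.card_prod, hs, hall _ hgo, hsd, hM, ← pow_add] at h3
    have := (Nat.pow_le_pow_iff_right hr1).1 h3
    omega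
  -- (3) the union
  have k3 : r ^ n ≤ 105 * (r ^ d - 1) + 1 := by
    have : Fintype M := Fintype.ofFinite M
    let T : Finset (alternatingGroup (Fin 7)) := Finset.univ.filter (fun t => orderOf t = 2)
    have hT : T.card = 105 := by
      rw [← Cfsg.Agent.H681.Sev.A7.f3, Nat.card_eq_fintype_card, Fintype.card_subtype]
    let C : alternatingGroup (Fin 7) → Finset M := fun t => (Finset.univ.filter (fun m : M => t • m = m)).erase 1
    have hC : ∀ t ∈ T, (C t).card = r ^ d - 1 := by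
      intro t ht
      have h1 : orderOf t = 2 := (Finset.mem_filter.1 ht).2
      have h3 : (Finset.univ.filter (fun m : M => t • m = m)).card = s := by
        rw [← hall t h1, ← Fintype.card_subtype, ← Nat.card_eq_fintype_card]
        rfl
      show ((Finset.univ.filter (fun m : M => t • m = m)).erase 1).card = _
      have h4 : (1 : M) ∈ Finset.univ.filter (fun m : M => t • m = m) :=
        Finset.mem_filter.2 ⟨Finset.mem_univ _, smul_one t⟩
      rw [Finset.card_erase_of_mem h4, h3, hsd]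
    have hsub : (Finset.univ.erase (1 : M)) ⊆ T.biUnion C := by
      intro m hm
      obtain ⟨t, ht, htm⟩ := h2 m
      rw [Finset.mem_biUnion]
      exact ⟨t, Finset.mem_filter.2 ⟨Finset.mem_univ _, ht⟩, Finset.mem_erase.2 ⟨Finset.ne_of_mem_erase hm,
        Finset.mem_filter.2 ⟨Finset.mem_univ _, htm⟩⟩⟩
    have h1 := (Finset.card_le_card hsub).trans Finset.card_biUnion_le
    rw [Finset.sum_congr rfl hC, Finset.sum_const, hT, Finset.card_erase_of_mem (Finset.mem_univ _),
      Finset.card_univ, ← Nat.card_eq_fintype_card, hM, smul_eq_mul] at h1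
    have : 0 < r ^ n := pow_pos hr.pos _
    omega
  -- arithmetic
  have hd0 : d ≠ 0 := by
    rintro rfl
    rw [pow_zero] at k3
    have h1 : r ^ n ≤ 1 := by simpa using k3
    have h3 : 1 < r ^ n := Nat.one_lt_pow hn hr1
    omega
  have hde : 2 * e ≤ d := by omega
  obtain ⟨f, hf⟩ : ∃ f, d = e + f := ⟨d - e, by omega⟩
  have hnf : n = 3 * f + e := by omega
  have hnd : n = d + 2 * f := by omega
  have hf1 : 1 ≤ f := by omega
  have k4 : r ^ (2 * f) < 105 := by
    have h1 : 0 < r ^ d := pow_pos hr.pos _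
    have h3 : r ^ d * r ^ (2 * f) < r ^ d * 105 := by
      rw [← pow_add, ← hnd]
      omega
    exact lt_of_mul_lt_mul_left h3 (Nat.zero_le _)
  have k5 : r ^ f ≤ 10 := by
    by_contra hlt
    push Not at hlt
    have h1 : 11 ^ 2 ≤ (r ^ f) ^ 2 := Nat.pow_le_pow_left (by omega) 2
    rw [← pow_mul, mul_comm f 2] at h1
    omega
  have k6 : r ≤ 10 := le_trans (Nat.le_self_pow (by omega) r) k5
  -- mod 5 and mod 7
  have : Fact (Nat.Prime 5) := ⟨by norm_num⟩
  have : Fact (Nat.Prime 7) := ⟨by norm_num⟩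
  have m5 : r ^ n ≡ 1 [MOD 5] := by
    obtain ⟨g, hg⟩ := Cfsg.Agent.H681.Sev.A7.f5 hao
    rw [← hM]
    exact modEq_one hg fun m hm => h5 m _ (Or.inl hg) hm
  have m7 : r ^ n ≡ 1 [MOD 7] := by
    obtain ⟨x, hx⟩ := exists_prime_orderOf_dvd_card' (G := alternatingGroup (Fin 7)) 7 (by
      rw [Cfsg.Agent.H681.Sev.A7.card_A7]; norm_num)
    rw [← hM]
    exact modEq_one hx fun m hm => h5 m _ (Or.inr hx) hm
  have r5 : r ≠ 5 := by
    rintro rfl
    have h1 : 5 ∣ 5 ^ n := dvd_pow_self 5 hn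
    have h3 : (5 : ℕ) ^ n % 5 = 0 := Nat.mod_eq_zero_of_dvd h1
    rw [Nat.ModEq, h3] at m5
    omega
  have r7 : r ≠ 7 := by
    rintro rfl
    have h1 : 7 ∣ 7 ^ n := dvd_pow_self 7 hn
    have h3 : (7 : ℕ) ^ n % 7 = 0 := Nat.mod_eq_zero_of_dvd h1
    rw [Nat.ModEq, h3] at m7
    omega
  have r3 : r = 3 := by
    have := hr.two_le
    interval_cases r
    · exact absurd rfl hr2
    · rfl
    · exact absurd hr (by norm_num)
    · exact absurd rfl r5
    · exact absurd hr (by norm_num)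
    · exact absurd rfl r7
    · exact absurd hr (by norm_num)
    · exact absurd hr (by norm_num)
    · exact absurd hr (by norm_num)
  subst r3
  have hf2 : f ≤ 2 := by
    by_contra hlt
    push Not at hlt
    have h1 : 3 ^ 3 ≤ 3 ^ f := Nat.pow_le_pow_right (by norm_num) hlt
    omega
  have hn8 : n ≤ 8 := by omega
  have hn1 : 1 ≤ n := by omega
  clear k3 hM hodd
  interval_cases n <;> revert m5 m7 <;> decide

end Cfsg.Agent.H955.PSq
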